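import Cfsg.Agent.Spor.HNV.D0

set_option autoImplicit false
set_option maxRecDepth 100000000
set_option Elab.async false

namespace Cfsg.Agent.Spor.HNV

theorem sq : PA.sq A = true := by decide +kernel

theorem TTok : PA.gensOk A TT 4 = true := by decide +kernel

theorem r1 : PA.isW A TT [2, 2, 2, 2, 2, 2] A.one = true := by decide +kernel

theorem r2 : PA.isW A TT [0, 0, 2, 0, 0, 3] A.one = true := by decide +kernel

theorem r3 : PA.isW A TT [1, 3, 0, 2, 1, 3, 0, 2, 1, 3, 0, 2] A.one = true := by decide +kernel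

theorem r4 : PA.isW A TT [1, 2, 2, 0, 2, 2, 2, 1, 2, 2, 0, 2, 2, 2, 1, 2, 2, 0, 2, 2, 2] A.one = true := by decide +kernel

theorem r5 : PA.isW A TT [0, 2, 0, 2, 0, 2, 0, 2, 0, 2, 0, 2, 0, 2, 0, 2] A.one = true := by decide +kernel

theorem r6 : PA.isW A TT [0, 2, 0, 2, 2, 2, 0, 2, 0, 2, 2, 2, 0, 2, 0, 2, 2, 2, 0, 2, 0, 2, 2, 2] A.one = true := by decide +kernel

theorem r7 : PA.isW A TT [4, 4] A.one = true := by decide +kernel

theorem r8 : PA.isW A TT [4, 0, 4, 0] A.one = true := by decide +kernel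

theorem r9 : PA.isW A TT [5, 2, 1, 3, 3, 1, 3, 1, 3, 4, 2, 0, 2, 0, 2, 2, 0, 3, 1, 1] A.one = true := by decide +kernel

theorem r10 : PA.isW A TT [4, 3, 1, 3, 1, 3, 3, 3, 4, 2, 2, 2, 0, 2, 0, 2, 0, 3, 1, 3, 1, 3, 3, 3, 4, 2, 2, 2, 0, 2, 0, 2, 0, 3, 1, 3, 1, 3, 3, 3, 4, 2, 2, 2, 0, 2, 0, 2, 0] A.one = true := by decide +kernel

theorem r11 : PA.isW A TT [6, 6, 6, 6, 6] A.one = true := by decide +kernel

theorem r12 : PA.isW A TT [1, 6, 0, 6, 6] A.one = true := by decide +kernel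

theorem r13 : PA.isW A TT [7, 3, 6, 2] A.one = true := by decide +kernel

theorem r14 : PA.isW A TT [4, 6, 4, 6, 4, 6] A.one = true := by decide +kernel

end Cfsg.Agent.Spor.HNV
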