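import Cfsg.Agent.Spor.HNC
import Cfsg.Agent.Spor.HNV.C0

set_option autoImplicit false
set_option maxRecDepth 100000000
set_option Elab.async false

namespace Cfsg.Agent.Spor.HNV

theorem hp : ((A.p : ℕ) : ZMod 5) = 0 := by decide
instance instCharP : CharP (ZMod 5) A.p := ZMod.charP 5

/-- the general linear group -/
noncomputable abbrev Ω : MRep A (ZMod 5) (GL (Fin A.d) (ZMod 5)) := MRep.gl A (ZMod 5) sq hp
noncomputable abbrev F : ℕ → GL (Fin A.d) (ZMod 5) := Ω.gen TT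
theorem presF : Pres 4 0 HNC.RL F :=
  ⟨fun _ h => absurd h (Nat.not_lt_zero _), (MRep.gl_gens TTok).all_one (show AllP (fun w => PA.isW A TT w A.one = true) [[2, 2, 2, 2, 2, 2], [0, 0, 2, 0, 0, 3], [1, 3, 0, 2, 1, 3, 0, 2, 1, 3, 0, 2], [1, 2, 2, 0, 2, 2, 2, 1, 2, 2, 0, 2, 2, 2, 1, 2, 2, 0, 2, 2, 2], [0, 2, 0, 2, 0, 2, 0, 2, 0, 2, 0, 2, 0, 2, 0, 2], [0, 2, 0, 2, 2, 2, 0, 2, 0, 2, 2, 2, 0, 2, 0, 2, 2, 2, 0, 2, 0, 2, 2, 2], [4, 4], [4, 0, 4, 0], [5, 2, 1, 3, 3, 1, 3, 1, 3, 4, 2, 0, 2, 0, 2, 2, 0, 3, 1, 1], [4, 3, 1, 3, 1, 3, 3, 3, 4, 2, 2, 2, 0, 2, 0, 2, 0, 3, 1, 3, 1, 3, 3, 3, 4, 2, 2, 2, 0, 2, 0, 2, 0, 3, 1, 3, 1, 3, 3, 3, 4, 2, 2, 2, 0, 2, 0, 2, 0], [6, 6, 6, 6, 6], [1, 6, 0, 6, 6], [7, 3, 6, 2], [4, 6, 4, 6, 4, 6]] from AllP.cons r1 (AllP.cons r2 (AllP.cons r3 (AllP.cons r4 (AllP.cons r5 (AllP.cons r6 (AllP.cons r7 (AllP.cons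 r8 (AllP.cons r9 (AllP.cons r10 (AllP.cons r11 (AllP.cons r12 (AllP.cons r13 (AllP.cons r14 (AllP.nil)))))))))))))))⟩

/-- the matrix group -/
noncomputable abbrev H : Subgroup (GL (Fin A.d) (ZMod 5)) := gsub 4 F
noncomputable abbrev h : ℕ → H := lift H F
noncomputable def X : MRep A (ZMod 5) H := Ω.comp H.subtype H.subtype_injective
theorem gens : X.Gens TT (atm 4 h) := (MRep.gl_gens TTok).lift fun _ hj => mem_gsub F hj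
theorem pres : Pres 4 0 HNC.RL h := presF.lift
theorem top : gsub 4 h = ⊤ := gsub_lift 4 F

end Cfsg.Agent.Spor.HNV
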